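import Groth.Agent.QCoh.Exact
import Groth.Agent.QCoh.Qcqs
import Groth.Agent.QCoh.FiniteType
import Groth.Agent.ModFlat.Cocont
import Groth.Prelude.Def_RelSpec2

/-! Direct image along affine morphisms: exactness and colimits of quasi-coherent modules. -/

set_option autoImplicit false
set_option backward.isDefEq.respectTransparency false
set_option backward.isDefEq.respectTransparency.types false

universe u

open CategoryTheory CategoryTheory.Limits AlgebraicGeometry Opposite TopologicalSpace

noncomputable section

namespace Groth.Agent.DirImgAff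

open Groth.Agent.QCoh

variable {X S : Scheme.{u}}

/-- Sections over an open, as a functor. -/
def secFunctor (V : X.Opens) : X.Modules ⥤ AddCommGrpCat.{u} :=
  Scheme.Modules.toPresheaf X ⋙ (evaluation _ _).obj (op V)

lemma exists_affine_cover_le (V : X.Opens) :
    ∃ (ι : Type u) (U : ι → X.Opens), (∀ i, IsAffineOpen (U i)) ∧ (∀ i, U i ≤ V) ∧ V ≤ ⨆ i, U i := by
  refine ⟨{W : X.affineOpens // W.1 ≤ V}, fun W => W.1.1, fun W => W.1.2, fun W => W.2, fun x hx => ?_⟩
  obtain ⟨_, ⟨W, hW, rfl⟩, hxW, hWV⟩ := X.isBasis_affineOpens.exists_subset_of_mem_open hx V.2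
  exact Opens.mem_iSup.2 ⟨⟨⟨W, hW⟩, hWV⟩, hxW⟩

/-- A morphism bijective on affine opens is an isomorphism. -/
theorem isIso_of_affine {M N : X.Modules} (φ : M ⟶ N)
    (h : ∀ U : X.Opens, IsAffineOpen U → Function.Bijective (φ.app U)) : IsIso φ := by
  rw [Scheme.Modules.Hom.isIso_iff_isIso_app]
  intro V
  rw [ConcreteCategory.isIso_iff_bijective]
  obtain ⟨ι, U, hU, hle, hV⟩ := exists_affine_cover_le V
  have hinj : ∀ (W : X.Opens) (a b : Γ(M, W)), φ.app W a = φ.app W b → a = b := by
    intro W a b hab
    obtain ⟨κ, U', hU', hle', hW⟩ := exists_affine_cover_le W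
    refine eq_of_locally_eq M hle' hW a b fun i => (h _ (hU' i)).1 ?_
    rw [app_res, app_res, hab]
  refine ⟨fun a b hab => hinj V a b hab, fun t => ?_⟩
  choose s hs using fun i => (h _ (hU i)).2 (res N (hle i) t)
  obtain ⟨m, hm⟩ := exists_glue M hle hV s fun i j => hinj _ _ _ (by
    rw [app_res, app_res, hs, hs, res_res, res_res])
  refine ⟨m, eq_of_locally_eq N hle hV _ _ fun i => ?_⟩
  rw [← app_res, hm, hs]

/-- A morphism surjective on affine opens is an epimorphism. -/
theorem epi_of_affine {M N : X.Modules} (φ : M ⟶ N)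
    (h : ∀ U : X.Opens, IsAffineOpen U → Function.Surjective (φ.app U)) : Epi φ := by
  constructor
  intro P a b hab
  refine Scheme.Modules.hom_ext _ _ fun V => ?_
  ext t
  obtain ⟨ι, U, hU, hle, hV⟩ := exists_affine_cover_le V
  refine eq_of_locally_eq P hle hV _ _ fun i => ?_
  rw [← app_res, ← app_res]
  obtain ⟨s, hs⟩ := h _ (hU i) (res N (hle i) t)
  rw [← hs]
  exact congr($(congrArg (fun ψ => Scheme.Modules.Hom.app ψ (U i)) hab) s)

variable (f : X ⟶ S)

/-- The direct image of an epimorphism of quasi-coherent modules along an affine morphism. -/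
theorem epi_pushforward [IsAffineHom f] {M N : X.Modules} [M.IsQuasicoherent] [N.IsQuasicoherent] (v : M ⟶ N) [Epi v] :
    Epi ((Scheme.Modules.pushforward f).map v) :=
  epi_of_affine _ fun _ hU => app_surjective_of_epi v (hU.preimage f)

/-- Sections over an affine open preserve colimits of quasi-coherent modules. -/
theorem preservesColimit_secFunctor {J : Type u} [SmallCategory J] (F : J ⥤ X.Modules)
    [∀ j, (F.obj j).IsQuasicoherent] {V : X.Opens} (hV : IsAffineOpen V) :
    PreservesColimit F (secFunctor V) := by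
  let R := Scheme.Modules.restrictFunctor hV.fromSpec
  refine preservesColimit_of_preserves_colimit_cocone (colimit.isColimit F) ?_
  let c := R.mapCocone (colimit.cocone F)
  have hc : IsColimit c := isColimitOfPreserves R (colimit.isColimit F)
  have hqc : ∀ j, ((F ⋙ R).obj j).IsQuasicoherent := fun j =>
    Scheme.Modules.isQuasicoherent_restrictFunctor hV.fromSpec (F.obj j)
  have : (colimit F).IsQuasicoherent := isQuasicoherent_colimit F
  have hqc' : c.pt.IsQuasicoherent := Scheme.Modules.isQuasicoherent_restrictFunctor hV.fromSpec (colimit F)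
  have hiso : ∀ j, IsIso (Scheme.Modules.fromTildeΓ ((F ⋙ R).obj j)) := fun j =>
    Scheme.Modules.isIso_fromTildeΓ_of_isQuasicoherent _
  have hiso' : IsIso (Scheme.Modules.fromTildeΓ c.pt) := Scheme.Modules.isIso_fromTildeΓ_of_isQuasicoherent _
  let Γ' : (Spec Γ(X, V)).Modules ⥤ ModuleCat.{u} Γ(X, V) := moduleSpecΓFunctor (R := Γ(X, V))
  let e : F ⋙ R ≅ ((F ⋙ R) ⋙ Γ') ⋙ tilde.functor Γ(X, V) := NatIso.ofComponents
    (fun j => (@asIso _ _ _ _ (Scheme.Modules.fromTildeΓ ((F ⋙ R).obj j)) (hiso j)).symm)
    (fun {i j} h => by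
      have := hiso i; have := hiso j
      show (F ⋙ R).map h ≫ inv _ = inv _ ≫ _
      rw [IsIso.comp_inv_eq, Category.assoc, IsIso.eq_inv_comp]
      exact (Scheme.Modules.fromTildeΓNatTrans.naturality ((F ⋙ R).map h)).symm)
  have := hiso'
  let d := (tilde.functor Γ(X, V)).mapCocone (Γ'.mapCocone c)
  let i : c.pt ≅ d.pt := (asIso (Scheme.Modules.fromTildeΓ c.pt)).symm
  have w : (Cocone.precompose e.inv).obj c ≅ d := Cocone.ext i (fun j => by
      have := hiso j
      show (Scheme.Modules.fromTildeΓ ((F ⋙ R).obj j) ≫ c.ι.app j) ≫ inv _ = _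
      rw [IsIso.comp_inv_eq]
      exact (Scheme.Modules.fromTildeΓNatTrans.naturality (c.ι.app j)).symm)
  have h2 : IsColimit ((tilde.functor Γ(X, V)).mapCocone (Γ'.mapCocone c)) :=
    (IsColimit.equivOfNatIsoOfIso e c d w) hc
  have h3 : IsColimit (Γ'.mapCocone c) := isColimitOfReflects (tilde.functor Γ(X, V)) h2
  let Q := R ⋙ Γ' ⋙ forget₂ (ModuleCat.{u} Γ(X, V)) AddCommGrpCat.{u}
  have h4 : IsColimit (Q.mapCocone (colimit.cocone F)) :=
    isColimitOfPreserves (forget₂ (ModuleCat.{u} Γ(X, V)) AddCommGrpCat.{u}) h3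
  let η : Q ≅ secFunctor V := NatIso.ofComponents
    (fun M => (M.restrictAppIso hV.fromSpec ⊤ ≪≫ M.presheaf.mapIso (eqToIso (fromSpec_image_top hV).symm).op))
    (fun {M N} g => by
      ext x
      exact (app_res g (fromSpec_image_top hV).ge _).symm)
  exact IsColimit.mapCoconeEquiv η h4

/-- Direct image along an affine morphism preserves colimits of quasi-coherent modules. -/
theorem preservesColimit_pushforward [IsAffineHom f] {J : Type u} [SmallCategory J] (F : J ⥤ X.Modules)
    [∀ j, (F.obj j).IsQuasicoherent] : PreservesColimit F (Scheme.Modules.pushforward f) := by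
  let G := F ⋙ Scheme.Modules.pushforward f
  have hG : ∀ j, (G.obj j).IsQuasicoherent := fun j => isQuasicoherent_pushforward f (F.obj j)
  refine preservesColimit_of_preserves_colimit_cocone (colimit.isColimit F) ?_
  let t := (Scheme.Modules.pushforward f).mapCocone (colimit.cocone F)
  let φ : colimit G ⟶ t.pt := colimit.desc G t
  have : IsIso φ := by
    refine isIso_of_affine φ fun U hU => ?_
    have h1 := preservesColimit_secFunctor G hU
    have h2 := preservesColimit_secFunctor F (hU.preimage f)
    have hd : IsColimit ((secFunctor U).mapCocone (colimit.cocone G)) :=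
      isColimitOfPreserves _ (colimit.isColimit G)
    have ht : IsColimit ((secFunctor U).mapCocone t) :=
      isColimitOfPreserves (secFunctor (f ⁻¹ᵁ U)) (colimit.isColimit F)
    have e : (secFunctor U).map φ = (hd.coconePointUniqueUpToIso ht).hom := by
      refine hd.hom_ext fun j => ?_
      rw [IsColimit.comp_coconePointUniqueUpToIso_hom]
      show (secFunctor U).map (colimit.ι G j) ≫ (secFunctor U).map φ = (secFunctor U).map (t.ι.app j)
      rw [← Functor.map_comp, colimit.ι_desc]
    have : IsIso ((secFunctor U).map φ) := by rw [e]; infer_instance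
    exact ConcreteCategory.bijective_of_isIso ((secFunctor U).map φ)
  haveI : IsIso ((colimit.isColimit G).desc t) := this
  exact IsColimit.ofPointIso (colimit.isColimit G)

/-! Modules over a quasi-coherent algebra. -/

theorem preservesColimits_toOS (B : RelSpec.QCAlg S) (I : Type u) [SmallCategory I] :
    PreservesColimitsOfShape I (AMod.toOS B) :=
  Groth.Agent.ModFlat.Cocont.preservesColimitsOfShape_pushforward
    (F := 𝟭 (Opens S.carrier)) (J := Opens.grothendieckTopology S.carrier) (K := Opens.grothendieckTopology S.carrier)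
    (R := AMod.ringSheaf B) (S := S.ringCatSheaf)
    (show S.ringCatSheaf ⟶ ((𝟭 (Opens S.carrier)).sheafPushforwardContinuous RingCat.{u} (Opens.grothendieckTopology S.carrier)
      (Opens.grothendieckTopology S.carrier)).obj (AMod.ringSheaf B) from ⟨(AMod.strHom B).hom⟩) I

instance faithful_toOS (B : RelSpec.QCAlg S) : (AMod.toOS B).Faithful where
  map_injective {M N} g h e := by
    apply SheafOfModules.hom_ext
    apply PresheafOfModules.Hom.ext
    funext U
    ext x
    exact congr(($e).val.app U x)

instance reflectsIsomorphisms_toOS (B : RelSpec.QCAlg S) : (AMod.toOS B).ReflectsIsomorphisms :=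
  inferInstance

theorem preservesColimit_dirImg [IsAffineHom f] {J : Type u} [SmallCategory J] (F : J ⥤ X.Modules)
    [∀ j, (F.obj j).IsQuasicoherent] : PreservesColimit F (AMod.dirImg f) := by
  have h1 := preservesColimit_pushforward f F
  have h2 : PreservesColimit F (AMod.dirImg f ⋙ AMod.toOS (RelSpec.QCAlg.directImage f)) := by
    rw [AMod.toOS_dirImg]; exact h1
  have h3 := preservesColimits_toOS (RelSpec.QCAlg.directImage f) J
  have h4 : ReflectsColimitsOfShape J (AMod.toOS (RelSpec.QCAlg.directImage f)) :=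
    reflectsColimitsOfShape_of_reflectsIsomorphisms
  exact preservesColimit_of_reflects_of_preserves (AMod.dirImg f) (AMod.toOS (RelSpec.QCAlg.directImage f))

end Groth.Agent.DirImgAff
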