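import Groth.Agent.DirImgAff.Full
import Groth.Agent.DirImgAff.Basic
import Groth.Agent.QCoh.FiniteType
import Groth.Agent.QCoh.Qcqs
import Mathlib.AlgebraicGeometry.Morphisms.QuasiSeparated

/-!
Essential surjectivity of the direct image along an affine morphism on quasi-coherent modules.
-/

set_option autoImplicit false
set_option maxHeartbeats 1000000
set_option backward.isDefEq.respectTransparency false
set_option backward.isDefEq.respectTransparency.types false

universe u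

open CategoryTheory CategoryTheory.Limits AlgebraicGeometry Opposite TopologicalSpace

noncomputable section

namespace Groth.Agent.DirImgAff.EssSurj

open Groth.Agent.QCoh

variable {X S : Scheme.{u}} {f : X ⟶ S} [QuasiCompact f] [QuasiSeparated f]

/-- Sections of a module over the direct image algebra. -/
abbrev MS (M : AMod (RelSpec.QCAlg.directImage f)) (V : S.Opens) : Type u := M.val.obj (op V)

instance msModule (M : AMod (RelSpec.QCAlg.directImage f)) (V : S.Opens) : Module Γ(X, f ⁻¹ᵁ V) (MS M V) :=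
  (M.val.obj (op V)).isModule

/-- Restriction of sections. -/
abbrev mres (M : AMod (RelSpec.QCAlg.directImage f)) {U V : S.Opens} (h : V ≤ U) : MS M U →+ MS M V :=
  (M.val.presheaf.map (homOfLE h).op).hom

variable (M : AMod (RelSpec.QCAlg.directImage f))

lemma mres_smul {U V : S.Opens} (h : V ≤ U) (b : Γ(X, f ⁻¹ᵁ U)) (y : MS M U) :
    mres M h (b • y) = rres (f.preimage_mono h) b • mres M h y :=
  PresheafOfModules.map_smul M.val (homOfLE h).op b y

lemma mres_mres {U V W : S.Opens} (h : V ≤ U) (h' : W ≤ V) (y : MS M U) :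
    mres M h' (mres M h y) = mres M (h'.trans h) y :=
  res_res ((AMod.toOS (RelSpec.QCAlg.directImage f)).obj M) h h' y

/-- The function defining the basic open upstairs. -/
abbrev aa {U : S.Opens} (g : Γ(S, U)) : Γ(X, f ⁻¹ᵁ U) := f.app U g

lemma isUnit_aa {U : S.Opens} (g : Γ(S, U)) {W : S.Opens} (h : W ≤ U) (hW : W ≤ S.basicOpen g) :
    IsUnit (rres (f.preimage_mono h) (aa g)) := by
  have h1 : IsUnit (rres (S.basicOpen_le g) g) := RingedSpace.isUnit_res_basicOpen _ g
  have h2 := (h1.map (S.presheaf.map (homOfLE hW).op).hom).map (f.app W).hom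
  rw [show (f.app W).hom ((S.presheaf.map (homOfLE hW).op).hom (rres (S.basicOpen_le g) g)) =
      f.app W (rres h g) from congrArg (f.app W) (rres_rres _ hW g),
    show f.app W (rres h g) = rres (f.preimage_mono h) (aa g) from
      congr($(f.naturality (homOfLE h).op) g)] at h2
  exact h2

lemma isUnit_aa' {U : S.Opens} (g : Γ(S, U)) {W : X.Opens} (hW : W ≤ f ⁻¹ᵁ S.basicOpen g) :
    IsUnit (rres (hW.trans (f.preimage_mono (S.basicOpen_le g))) (aa g)) := by
  have := (isUnit_aa (f := f) g (S.basicOpen_le g) le_rfl).map (X.presheaf.map (homOfLE hW).op).hom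
  rwa [show (X.presheaf.map (homOfLE hW).op).hom (rres (f.preimage_mono (S.basicOpen_le g)) (aa g)) =
    rres (hW.trans (f.preimage_mono (S.basicOpen_le g))) (aa g) from rres_rres _ _ _] at this

variable [IsAffineHom f] (hM : ((AMod.toOS (RelSpec.QCAlg.directImage f)).obj M).IsQuasicoherent)
  {U : S.Opens} (hU : IsAffineOpen U)

include hM hU in
lemma frac (g : Γ(S, U)) (y : MS M (S.basicOpen g)) :
    ∃ (n : ℕ) (t : MS M U), mres M (S.basicOpen_le g) t =
      rres (f.preimage_mono (S.basicOpen_le g)) (aa g) ^ n • y := by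
  have := hM
  obtain ⟨n, t, ht⟩ := (isLocalizingAt ((AMod.toOS (RelSpec.QCAlg.directImage f)).obj M) hU g).surj y
  refine ⟨n, t, ht.trans ?_⟩
  show (f.app _ (rres (S.basicOpen_le g) g ^ n) : Γ(X, f ⁻¹ᵁ S.basicOpen g)) • y = _
  rw [map_pow, show f.app _ (rres (S.basicOpen_le g) g) = rres (f.preimage_mono (S.basicOpen_le g)) (aa g) from
    congr($(f.naturality (homOfLE (S.basicOpen_le g)).op) g)]

include hM hU in
lemma kill (g : Γ(S, U)) (z : MS M U) (hz : mres M (S.basicOpen_le g) z = 0) :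
    ∃ k : ℕ, aa (f := f) g ^ k • z = 0 := by
  have := hM
  obtain ⟨k, hk⟩ := (isLocalizingAt ((AMod.toOS (RelSpec.QCAlg.directImage f)).obj M) hU g).eq_zero z hz
  refine ⟨k, Eq.trans ?_ hk⟩
  show aa g ^ k • z = f.app U (g ^ k) • z
  rw [map_pow]

variable (N : X.Modules) (l : MS M U →ₗ[Γ(X, f ⁻¹ᵁ U)] Γ(N, f ⁻¹ᵁ U))

include hM hU in
/-- Two representations of one section give the same image. -/
lemma compat {V : S.Opens} (m : MS M V) (g g' : Γ(S, U)) (hg : S.basicOpen g ≤ V) (hg' : S.basicOpen g' ≤ V)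
    (n n' : ℕ) (t t' : MS M U)
    (ht : mres M (S.basicOpen_le g) t = rres (f.preimage_mono (S.basicOpen_le g)) (aa g) ^ n • mres M hg m)
    (ht' : mres M (S.basicOpen_le g') t' = rres (f.preimage_mono (S.basicOpen_le g')) (aa g') ^ n' • mres M hg' m)
    {W : X.Opens} (hW : W ≤ f ⁻¹ᵁ S.basicOpen g) (hW' : W ≤ f ⁻¹ᵁ S.basicOpen g') :
    rres (hW.trans (f.preimage_mono (S.basicOpen_le g))) (aa g') ^ n' •
        res N (hW.trans (f.preimage_mono (S.basicOpen_le g))) (l t) =
      rres (hW.trans (f.preimage_mono (S.basicOpen_le g))) (aa g) ^ n •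
        res N (hW.trans (f.preimage_mono (S.basicOpen_le g))) (l t') := by
  have hgg : S.basicOpen (g * g') = S.basicOpen g ⊓ S.basicOpen g' := S.basicOpen_mul g g'
  have h1 : S.basicOpen (g * g') ≤ S.basicOpen g := hgg.le.trans inf_le_left
  have h2 : S.basicOpen (g * g') ≤ S.basicOpen g' := hgg.le.trans inf_le_right
  have e1 := congrArg (mres M h1) ht
  have e2 := congrArg (mres M h2) ht'
  rw [mres_mres, mres_smul, mres_mres, map_pow, rres_rres] at e1 e2
  have hz : mres M (S.basicOpen_le (g * g')) (aa (f := f) g' ^ n' • t - aa (f := f) g ^ n • t') = 0 := by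
    rw [map_sub, mres_smul, mres_smul, map_pow, map_pow, e1, e2, smul_smul, smul_smul, sub_eq_zero]
    exact congrArg (· • mres M (h1.trans hg) m) (mul_comm _ _)
  obtain ⟨k, hk⟩ := kill M hM hU (g * g') _ hz
  have hk' := congrArg (fun z => res N (hW.trans (f.preimage_mono (S.basicOpen_le g))) (l z)) hk
  simp only [map_smul, map_sub, map_zero, res_smul, map_pow] at hk'
  have hu : IsUnit (rres (hW.trans (f.preimage_mono (S.basicOpen_le g))) (aa (g * g')) ^ k) := by
    have hle : W ≤ f ⁻¹ᵁ S.basicOpen (g * g') := by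
      rw [hgg]; exact le_inf hW hW'
    have := ((isUnit_aa (f := f) (g * g') (S.basicOpen_le (g * g')) le_rfl).map
      (X.presheaf.map (homOfLE hle).op).hom).pow k
    rwa [show (X.presheaf.map (homOfLE hle).op).hom (rres (f.preimage_mono (S.basicOpen_le (g * g'))) (aa (g * g'))) =
      rres (hW.trans (f.preimage_mono (S.basicOpen_le g))) (aa (g * g')) from rres_rres _ _ _] at this
  exact sub_eq_zero.mp (hu.smul_eq_zero.mp hk')

/-- `r` is the image of `m` under the extension of `l`. -/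
def Img {V : S.Opens} (m : MS M V) (r : Γ(N, f ⁻¹ᵁ V)) : Prop :=
  ∀ (g : Γ(S, U)) (hg : S.basicOpen g ≤ V) (n : ℕ) (t : MS M U),
    mres M (S.basicOpen_le g) t = rres (f.preimage_mono (S.basicOpen_le g)) (aa g) ^ n • mres M hg m →
    res N (f.preimage_mono (S.basicOpen_le g)) (l t) =
      rres (f.preimage_mono (S.basicOpen_le g)) (aa g) ^ n • res N (f.preimage_mono hg) r

variable (hN : ∀ W : X.Opens, Function.Bijective (res N (inf_le_left : W ⊓ f ⁻¹ᵁ U ≤ W)))

include hU in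
lemma inf_le_cover (V : S.Opens) :
    f ⁻¹ᵁ V ⊓ f ⁻¹ᵁ U ≤ ⨆ g : {g : Γ(S, U) // S.basicOpen g ≤ V}, f ⁻¹ᵁ S.basicOpen g.1 := fun x hx => by
  obtain ⟨g, hg, hxg⟩ := hU.exists_basicOpen_le ⟨f x, hx.1⟩ hx.2
  exact Opens.mem_iSup.2 ⟨⟨g, hg⟩, hxg⟩

include hM hU hN in
lemma img_unique {V : S.Opens} {m : MS M V} {r r' : Γ(N, f ⁻¹ᵁ V)} (h : Img M N l m r) (h' : Img M N l m r') :
    r = r' := by
  refine (hN (f ⁻¹ᵁ V)).1 (eq_of_locally_eq N (V := f ⁻¹ᵁ V ⊓ f ⁻¹ᵁ U)
    (U := fun g : {g : Γ(S, U) // S.basicOpen g ≤ V} => f ⁻¹ᵁ S.basicOpen g.1) (fun g => le_inf (f.preimage_mono g.2) (f.preimage_mono (S.basicOpen_le g.1)))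
    (inf_le_cover hU V) _ _ fun g => ?_)
  rw [res_res, res_res]
  obtain ⟨n, t, ht⟩ := frac M hM hU g.1 (mres M g.2 m)
  exact ((isUnit_aa g.1 (S.basicOpen_le g.1) le_rfl).pow n).smul_left_cancel.1
    ((h g.1 g.2 n t ht).symm.trans (h' g.1 g.2 n t ht))

include hM hU hN in
lemma exists_img {V : S.Opens} (m : MS M V) : ∃ r : Γ(N, f ⁻¹ᵁ V), Img M N l m r := by
  choose n t ht using fun g : {g : Γ(S, U) // S.basicOpen g ≤ V} => frac M hM hU g.1 (mres M g.2 m)
  have hu := fun g : {g : Γ(S, U) // S.basicOpen g ≤ V} =>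
    (isUnit_aa (f := f) g.1 (S.basicOpen_le g.1) le_rfl).pow (n g)
  let r₀ : ∀ g : {g : Γ(S, U) // S.basicOpen g ≤ V}, Γ(N, f ⁻¹ᵁ S.basicOpen g.1) := fun g =>
    (((hu g).unit⁻¹ : _ˣ) : Γ(X, f ⁻¹ᵁ S.basicOpen g.1)) • res N (f.preimage_mono (S.basicOpen_le g.1)) (l (t g))
  have hr₀ : ∀ g, rres (f.preimage_mono (S.basicOpen_le g.1)) (aa g.1) ^ n g • r₀ g =
      res N (f.preimage_mono (S.basicOpen_le g.1)) (l (t g)) := fun g => by
    simp only [r₀, smul_smul, IsUnit.mul_val_inv, one_smul]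
  obtain ⟨r₁, hr₁⟩ := exists_glue N
    (fun g : {g : Γ(S, U) // S.basicOpen g ≤ V} => le_inf (f.preimage_mono g.2) (f.preimage_mono (S.basicOpen_le g.1)))
    (inf_le_cover hU V) r₀ (fun g g' => by
      have hc := compat M hM hU N l m g.1 g'.1 g.2 g'.2 _ _ _ _ (ht g) (ht g')
        (inf_le_left : f ⁻¹ᵁ S.basicOpen g.1 ⊓ f ⁻¹ᵁ S.basicOpen g'.1 ≤ _) inf_le_right
      have a1 := congrArg (res N (inf_le_left : f ⁻¹ᵁ S.basicOpen g.1 ⊓ f ⁻¹ᵁ S.basicOpen g'.1 ≤ _)) (hr₀ g)
      have a2 := congrArg (res N (inf_le_right : f ⁻¹ᵁ S.basicOpen g.1 ⊓ f ⁻¹ᵁ S.basicOpen g'.1 ≤ _)) (hr₀ g')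
      rw [res_smul, map_pow, rres_rres, res_res] at a1 a2
      rw [← a1, ← a2, smul_smul, smul_smul] at hc
      refine ((((isUnit_aa' g'.1 (inf_le_right : f ⁻¹ᵁ S.basicOpen g.1 ⊓ f ⁻¹ᵁ S.basicOpen g'.1 ≤ _)).pow (n g')).mul
        ((isUnit_aa' g.1 (inf_le_left : f ⁻¹ᵁ S.basicOpen g.1 ⊓ f ⁻¹ᵁ S.basicOpen g'.1 ≤ _)).pow (n g))).smul_left_cancel).1 ?_
      exact hc.trans (congrArg (· • res N inf_le_right (r₀ g')) (mul_comm _ _)))
  obtain ⟨r, rfl⟩ := (hN (f ⁻¹ᵁ V)).2 r₁
  refine ⟨r, fun g hg k s hs => ?_⟩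
  have hc := compat M hM hU N l m g g hg hg _ _ _ _ hs (ht ⟨g, hg⟩) le_rfl le_rfl
  rw [← hr₀ ⟨g, hg⟩, ← hr₁ ⟨g, hg⟩, res_res, smul_smul, mul_comm, ← smul_smul] at hc
  exact ((isUnit_aa g (S.basicOpen_le g) le_rfl).pow (n ⟨g, hg⟩)).smul_left_cancel.1 hc

include hM hU in
lemma img_self (m : MS M U) : Img M N l m (l m) := by
  intro g hg n t ht
  have := compat M hM hU N l m g g hg (S.basicOpen_le g) n 0 t m ht (by rw [pow_zero, one_smul]) le_rfl le_rfl
  rw [pow_zero, one_smul] at this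
  exact this

lemma img_res {V W : S.Opens} (h : W ≤ V) {m : MS M V} {r : Γ(N, f ⁻¹ᵁ V)} (hr : Img M N l m r) :
    Img M N l (mres M h m) (res N (f.preimage_mono h) r) := by
  intro g hg n t ht
  rw [res_res]
  exact hr g (hg.trans h) n t (by rwa [mres_mres] at ht)

include hM hU in
lemma img_add {V : S.Opens} {m m' : MS M V} {r r' : Γ(N, f ⁻¹ᵁ V)} (hr : Img M N l m r) (hr' : Img M N l m' r') :
    Img M N l (m + m') (r + r') := by
  intro g hg n t ht
  obtain ⟨n₁, t₁, ht₁⟩ := frac M hM hU g (mres M hg m)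
  have a1 := hr g hg n₁ t₁ ht₁
  have a2 := hr' g hg (n + n₁) (aa (f := f) g ^ n₁ • t - aa (f := f) g ^ n • t₁) (by
    rw [map_sub, mres_smul, mres_smul, map_pow, map_pow, ht, ht₁, map_add, smul_smul, smul_smul, ← pow_add,
      ← pow_add, add_comm n₁ n, ← smul_sub, add_sub_cancel_left])
  simp only [map_sub, map_smul, res_smul, map_pow, a1] at a2
  refine ((isUnit_aa (f := f) g (S.basicOpen_le g) le_rfl).pow n₁).smul_left_cancel.1 ?_
  rw [sub_eq_iff_eq_add.mp a2, map_add, smul_add, smul_add, smul_smul, smul_smul, smul_smul, ← pow_add, ← pow_add,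
    add_comm n₁ n, add_comm]

include hM hU in
lemma img_smul {V : S.Opens} (b : Γ(X, f ⁻¹ᵁ V)) {m : MS M V} {r : Γ(N, f ⁻¹ᵁ V)} (hr : Img M N l m r) :
    Img M N l (b • m) (b • r) := by
  intro g hg n t ht
  obtain ⟨n₁, t₁, ht₁⟩ := frac M hM hU g (mres M hg m)
  have a1 := hr g hg n₁ t₁ ht₁
  have heq : X.basicOpen (aa g) = f ⁻¹ᵁ S.basicOpen g := (Scheme.preimage_basicOpen f g).symm
  obtain ⟨k, c, hc⟩ := exists_eq_pow_mul_of_isAffineOpen X _ (hU.preimage f) (aa g)
    (rres (heq.le.trans (f.preimage_mono hg)) b)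
  replace hc : rres (f.preimage_mono (S.basicOpen_le g)) c =
      rres (f.preimage_mono (S.basicOpen_le g)) (aa g) ^ k * rres (f.preimage_mono hg) b := by
    have h2 := congrArg (rres heq.ge) (show rres (X.basicOpen_le (aa g)) c =
      rres (X.basicOpen_le (aa g)) (aa g) ^ k * rres (heq.le.trans (f.preimage_mono hg)) b from hc)
    simpa only [map_mul, map_pow, rres_rres] using h2
  have key := compat M hM hU N l (b • m) g g hg hg n (k + n₁) t (c • t₁) ht (by
    rw [mres_smul, ht₁, mres_smul, hc, smul_smul, smul_smul, pow_add]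
    congr 1
    ring) le_rfl le_rfl
  rw [map_smul, res_smul, a1, hc] at key
  refine ((isUnit_aa g (S.basicOpen_le g) le_rfl).pow (k + n₁)).smul_left_cancel.1 (key.trans ?_)
  rw [res_smul, smul_smul, smul_smul, smul_smul, smul_smul, pow_add]
  congr 1
  ring

include hM hU hN in
/-- The extension of `l`. -/
theorem exists_lift : ∃ ψ : M ⟶ (AMod.dirImg f).obj N, ∀ t, (ψ.val.app (op U)).hom t = l t := by
  choose r hr using fun (V : S.Opens) (m : MS M V) => exists_img M hM hU N l hN m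
  let φp : M.val.presheaf ⟶ ((AMod.dirImg f).obj N).val.presheaf :=
    { app := fun V => AddCommGrpCat.ofHom (AddMonoidHom.mk' (r V.unop) fun a b =>
        img_unique M hM hU N l hN (hr _ _) (img_add M hM hU N l (hr _ a) (hr _ b)))
      naturality := fun V W i => by
        ext s
        exact img_unique M hM hU N l hN (hr _ _) (img_res M N l i.unop.le (hr _ s)) }
  exact ⟨{ val := PresheafOfModules.homMk φp (fun V a s => img_unique M hM hU N l hN (hr _ _) (img_smul M hM hU N l a (hr _ s))) },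
    fun t => img_unique M hM hU N l hN (hr U t) (img_self M hM hU N l t)⟩

include hM hU hN in
/-- Morphisms into such direct images are determined by the sections over `U`. -/
theorem hom_ext {ψ ψ' : M ⟶ (AMod.dirImg f).obj N}
    (h : ∀ t : MS M U, (ψ.val.app (op U)).hom t = (ψ'.val.app (op U)).hom t) : ψ = ψ' := by
  let l₀ : MS M U →ₗ[Γ(X, f ⁻¹ᵁ U)] Γ(N, f ⁻¹ᵁ U) :=
    { toFun := fun t => (ψ.val.app (op U)).hom t
      map_add' := fun a b => (ψ.val.app (op U)).hom.map_add a b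
      map_smul' := fun a b => (ψ.val.app (op U)).hom.map_smul a b }
  have key : ∀ (χ : M ⟶ (AMod.dirImg f).obj N), (∀ t : MS M U, (χ.val.app (op U)).hom t = l₀ t) →
      ∀ (V : S.Opens) (m : MS M V), Img M N l₀ m ((χ.val.app (op V)).hom m) := by
    intro χ hχ V m g hg n t ht
    rw [← hχ t]
    refine (PresheafOfModules.naturality_apply χ.val (homOfLE (S.basicOpen_le g)).op t).symm.trans ?_
    refine (congrArg (χ.val.app (op (S.basicOpen g))).hom ht).trans ?_
    refine ((χ.val.app (op (S.basicOpen g))).hom.map_smul _ _).trans ?_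
    exact congrArg (_ • ·) (PresheafOfModules.naturality_apply χ.val (homOfLE hg).op m)
  apply SheafOfModules.hom_ext
  apply PresheafOfModules.hom_ext
  intro V
  ext m
  exact img_unique M hM hU N l₀ hN (key ψ (fun t => rfl) V.unop m) (key ψ' (fun t => (h t).symm) V.unop m)

section Main

variable (f)

/-- The morphism of sheaves of rings defining the direct image. -/
def φR : AMod.ringSheaf (RelSpec.QCAlg.directImage f) ⟶
    ((Opens.map f.base).sheafPushforwardContinuous RingCat.{u} (Opens.grothendieckTopology S.carrier)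
      (Opens.grothendieckTopology X.carrier)).obj X.ringCatSheaf := ⟨𝟙 _⟩

/-- The module on `X` attached to a module over the direct image algebra. -/
def inv' : AMod (RelSpec.QCAlg.directImage f) ⥤ X.Modules := SheafOfModules.pullback.{u} (φR f)

/-- It is left adjoint to the direct image. -/
def adj : inv' f ⊣ AMod.dirImg f := SheafOfModules.pullbackPushforwardAdjunction.{u} (φR f)

omit [QuasiCompact f] [QuasiSeparated f] [IsAffineHom f] in
lemma bijective_res_of_le {Z : Scheme.{u}} (P : Z.Modules) {A B : Z.Opens} (h : B ≤ A) (h' : A ≤ B) :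
    Function.Bijective (res P h) :=
  Function.bijective_iff_has_inverse.2 ⟨res P h', fun x => (res_res P h h' x).trans (res_self P _ x),
    fun x => (res_res P h' h x).trans (res_self P _ x)⟩

include hM hU in
theorem key : (toSpec (hU.preimage f) ((inv' f).obj M)).IsQuasicoherent ∧
    Function.Bijective (fun t : MS M U => (((adj f).unit.app M).val.app (op U)).hom t) := by
  let hW := hU.preimage f
  let GM := (inv' f).obj M
  let η := (adj f).unit.app M
  let j := hW.fromSpec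
  let T : ModuleCat.{u} Γ(X, f ⁻¹ᵁ U) := ModuleCat.of Γ(X, f ⁻¹ᵁ U) (MS M U)
  let N0 : (Spec Γ(X, f ⁻¹ᵁ U)).Modules := tilde T
  let Q : (Spec Γ(X, f ⁻¹ᵁ U)).Modules := toSpec hW GM
  have htop : (⊤ : (Spec Γ(X, f ⁻¹ᵁ U)).Opens) ≤ j ⁻¹ᵁ (f ⁻¹ᵁ U) := hW.fromSpec_preimage_self.ge
  have hN : ∀ (P : (Spec Γ(X, f ⁻¹ᵁ U)).Modules) (W : X.Opens), Function.Bijective
      (res ((Scheme.Modules.pushforward j).obj P) (inf_le_left : W ⊓ f ⁻¹ᵁ U ≤ W)) := fun P W =>
    bijective_res_of_le P (j.preimage_mono inf_le_left) (fun x hx => ⟨hx, htop trivial⟩)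
  let gs : MS M U → Γ(N0, ⊤) := fun t => (tilde.toOpen T ⊤).hom t
  let l0 : MS M U →ₗ[Γ(X, f ⁻¹ᵁ U)] Γ((Scheme.Modules.pushforward j).obj N0, f ⁻¹ᵁ U) :=
    { toFun := fun t => res N0 (le_top : j ⁻¹ᵁ (f ⁻¹ᵁ U) ≤ ⊤) (gs t)
      map_add' := fun a b => (congrArg (res N0 (le_top : j ⁻¹ᵁ (f ⁻¹ᵁ U) ≤ ⊤)) (map_add (tilde.toOpen T ⊤).hom a b)).trans (map_add _ _ _)
      map_smul' := fun r t => by
        have h1 : gs (r • t) = r • gs t := map_smul (tilde.toOpen T ⊤).hom r t
        show res N0 (le_top : j ⁻¹ᵁ (f ⁻¹ᵁ U) ≤ ⊤) (gs (r • t)) = j.app (f ⁻¹ᵁ U) r • res N0 (le_top : j ⁻¹ᵁ (f ⁻¹ᵁ U) ≤ ⊤) (gs t)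
        rw [h1, Scheme.Modules.smul_Spec_def, res_smul, hW.fromSpec_app_self]
        exact congrArg (· • res N0 (le_top : j ⁻¹ᵁ (f ⁻¹ᵁ U) ≤ ⊤) (gs t)) (rres_rres le_top le_top _) }
  obtain ⟨ψ0, hψ0⟩ := exists_lift M hM hU ((Scheme.Modules.pushforward j).obj N0) l0 (hN N0)
  let χ : GM ⟶ (Scheme.Modules.pushforward j).obj N0 := ((adj f).homEquiv _ _).symm ψ0
  let e : Q ⟶ N0 := ((Scheme.Modules.restrictAdjunction j).homEquiv _ _).symm χ
  let evl : MS M U →ₗ[Γ(X, f ⁻¹ᵁ U)] Γ(Q, ⊤) :=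
    { toFun := fun t => (toSpecTopLinearEquiv hW GM).symm ((η.val.app (op U)).hom t)
      map_add' := fun a b => (congrArg (toSpecTopLinearEquiv hW GM).symm ((η.val.app (op U)).hom.map_add a b)).trans (map_add _ _ _)
      map_smul' := fun r a => (congrArg (toSpecTopLinearEquiv hW GM).symm ((η.val.app (op U)).hom.map_smul r a)).trans
        (map_smul (toSpecTopLinearEquiv hW GM).symm (show Γ(X, f ⁻¹ᵁ U) from r) (show Γ(GM, f ⁻¹ᵁ U) from (η.val.app (op U)).hom a)) }
  let ev : T ⟶ moduleSpecΓFunctor.obj Q := ModuleCat.ofHom (X := MS M U) (Y := Γ(Q, ⊤)) evl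
  let e' : N0 ⟶ Q := (tilde.adjunction.homEquiv T Q).symm ev
  have he' : ∀ t, e'.app ⊤ (gs t) = evl t := fun t =>
    congr($((tilde.adjunction.homEquiv T Q).apply_symm_apply ev).hom t)
  have hev : ∀ t, evl t = res GM (fromSpec_image_top hW).le ((η.val.app (op U)).hom t) := fun t => by
    refine ((toSpecTopLinearEquiv hW GM).symm_apply_eq).2 ?_
    exact ((res_res GM (fromSpec_image_top hW).le (fromSpec_image_top hW).ge _).trans (res_self GM _ _)).symm
  have he : ∀ t, e.app ⊤ (evl t) = gs t := fun t => by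
    rw [hev]
    have h1 : χ.app (f ⁻¹ᵁ U) ((η.val.app (op U)).hom t) = l0 t := by
      rw [← hψ0]
      exact congr(($((adj f).homEquiv M _ |>.apply_symm_apply ψ0)).val.app (op U) t)
    show ((Scheme.Modules.restrictAdjunction j).counit.app N0).app ⊤ (χ.app (j ''ᵁ ⊤) _) = _
    rw [app_res χ, h1, Scheme.Modules.restrictAdjunction_counit_app_app]
    exact (congrArg (res N0 _) (res_res N0 (le_top : j ⁻¹ᵁ (f ⁻¹ᵁ U) ≤ ⊤) _ (gs t))).trans ((res_res N0 _ _ _).trans (res_self N0 _ _))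
  have hee' : e' ≫ e = 𝟙 N0 := by
    apply (tilde.adjunction.homEquiv T N0).injective
    apply ModuleCat.hom_ext
    refine LinearMap.ext fun t => ?_
    show e.app ⊤ (e'.app ⊤ (gs t)) = gs t
    rw [he', he]
  have he'e : e ≫ e' = 𝟙 Q := by
    apply ((Scheme.Modules.restrictAdjunction j).homEquiv GM Q).injective
    apply ((adj f).homEquiv M _).injective
    refine hom_ext M hM hU ((Scheme.Modules.pushforward j).obj Q) (hN Q) fun t => ?_
    have hu : ((Scheme.Modules.restrictAdjunction j).unit.app GM).app (f ⁻¹ᵁ U) ((η.val.app (op U)).hom t) =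
        res Q (le_top : j ⁻¹ᵁ (f ⁻¹ᵁ U) ≤ ⊤) (evl t) := by
      rw [hev, Scheme.Modules.restrictAdjunction_unit_app_app]
      exact (res_res GM _ _ _).symm
    show (e ≫ e').app (j ⁻¹ᵁ (f ⁻¹ᵁ U)) (((Scheme.Modules.restrictAdjunction j).unit.app GM).app (f ⁻¹ᵁ U) ((η.val.app (op U)).hom t)) =
      ((Scheme.Modules.restrictAdjunction j).unit.app GM).app (f ⁻¹ᵁ U) ((η.val.app (op U)).hom t)
    rw [hu, app_res (e ≫ e')]
    exact congrArg (res Q (le_top : j ⁻¹ᵁ (f ⁻¹ᵁ U) ≤ ⊤)) ((congrArg (e'.app ⊤) (he t)).trans (he' t))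
  let E : N0 ≅ Q := ⟨e', e, hee', he'e⟩
  refine ⟨isQuasicoherent_of_iso E, ?_⟩
  have hto : Function.Bijective gs := ConcreteCategory.bijective_of_isIso (tilde.toOpen T ⊤)
  have hev' : Function.Bijective fun t : MS M U => evl t := by
    rw [show (fun t : MS M U => evl t) = (fun x => e'.app ⊤ x) ∘ gs from funext fun t => (he' t).symm]
    have : IsIso e' := E.isIso_hom
    have : IsIso (e'.app ⊤) := Scheme.Modules.Hom.isIso_iff_isIso_app.1 inferInstance ⊤
    exact (ConcreteCategory.bijective_of_isIso (e'.app ⊤)).comp hto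
  exact (Function.Bijective.of_comp_iff' (toSpecTopLinearEquiv hW GM).symm.bijective
    (fun t : MS M U => (η.val.app (op U)).hom t)).1 hev'

include hM in
/-- Every quasi-coherent module over the direct image algebra is a direct image. -/
theorem exists_iso : ∃ F : X.Modules, F.IsQuasicoherent ∧ Nonempty ((AMod.dirImg f).obj F ≅ M) := by
  have hq : ((inv' f).obj M).IsQuasicoherent := isQuasicoherent_of_forall_exists _ fun x => by
    obtain ⟨_, ⟨U, hU, rfl⟩, hxU, -⟩ := S.isBasis_affineOpens.exists_subset_of_mem_open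
      (Set.mem_univ (f x)) isOpen_univ
    exact ⟨f ⁻¹ᵁ U, hU.preimage f, hxU, (key f M hM hU).1⟩
  have hi : IsIso ((AMod.toOS (RelSpec.QCAlg.directImage f)).map ((adj f).unit.app M)) :=
    isIso_of_affine _ fun U hU => (key f M hM hU).2
  have : (AMod.toOS (RelSpec.QCAlg.directImage f)).Faithful :=
    ⟨fun {M N} a b e => by
      apply SheafOfModules.hom_ext
      apply PresheafOfModules.Hom.ext
      funext U
      ext x
      exact congr(($e).val.app U x)⟩
  have : IsIso ((adj f).unit.app M) := isIso_of_reflects_iso _ (AMod.toOS (RelSpec.QCAlg.directImage f))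
  exact ⟨_, hq, ⟨(asIso ((adj f).unit.app M)).symm⟩⟩

end Main

end Groth.Agent.DirImgAff.EssSurj
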