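import Groth.Agent.Props.QStalk
import Groth.Agent.PullStalk.Exact
import Groth.Prelude.Def_RelSpec2

/-! Full faithfulness of the direct image along an affine morphism on quasi-coherent modules. -/

set_option autoImplicit false
set_option backward.isDefEq.respectTransparency false
set_option backward.isDefEq.respectTransparency.types false

universe u

open CategoryTheory CategoryTheory.Limits AlgebraicGeometry Opposite TopologicalSpace

noncomputable section

namespace Groth.Agent.DirImgAff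

open Groth.Agent.QCoh Groth.Agent.Props.QStalk Groth.Agent.PullStalk.Sky Groth.Agent.PullStalk.Exact

variable {X S : Scheme.{u}} {f : X ⟶ S} {F G : X.Modules}

/-- A linear map between stalks agreeing with a map on sections over preimages. -/
lemma stalk_ext [IsAffineHom f] [F.IsQuasicoherent] {U : S.Opens} (hU : IsAffineOpen U) {x : X} (hx : f x ∈ U)
    {T T' : F.presheaf.stalk x →ₗ[X.presheaf.stalk x] G.presheaf.stalk x}
    (h : ∀ t : Γ(F, f ⁻¹ᵁ U), T (germM F (f ⁻¹ᵁ U) x hx t) = T' (germM F (f ⁻¹ᵁ U) x hx t)) : T = T' := by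
  let _ := moduleSections F (show x ∈ f ⁻¹ᵁ U from hx)
  let _ := X.presheaf.algebra_section_stalk (U := f ⁻¹ᵁ U) ⟨x, hx⟩
  have hL := isLocalizedModule_germLin F (show x ∈ f ⁻¹ᵁ U from hx) (hU.preimage f)
  have hA : IsLocalization.AtPrime (X.presheaf.stalk x) ((hU.preimage f).primeIdealOf ⟨x, hx⟩).asIdeal :=
    (hU.preimage f).isLocalization_stalk ⟨x, hx⟩
  refine LinearMap.ext fun t => ?_
  obtain ⟨⟨m, a⟩, hm⟩ := IsLocalizedModule.surj ((hU.preimage f).primeIdealOf ⟨x, hx⟩).asIdeal.primeCompl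
    (germLin F (show x ∈ f ⁻¹ᵁ U from hx)) t
  have hu := IsLocalization.map_units (X.presheaf.stalk x) a
  refine hu.smul_left_cancel.1 ?_
  rw [← map_smul, ← map_smul]
  have hm' : (X.presheaf.germ (f ⁻¹ᵁ U) x hx (a : Γ(X, f ⁻¹ᵁ U))) • t = germM F (f ⁻¹ᵁ U) x hx m := hm
  exact (congrArg T hm').trans ((h m).trans (congrArg T' hm').symm)

variable [QuasiCompact f] [QuasiSeparated f]

/-- The map on sections over a preimage. -/
def sec (ψ : (AMod.dirImg f).obj F ⟶ (AMod.dirImg f).obj G) (U : S.Opens) :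
    Γ(F, f ⁻¹ᵁ U) →ₗ[Γ(X, f ⁻¹ᵁ U)] Γ(G, f ⁻¹ᵁ U) where
  toFun t := (ψ.val.app (op U)).hom t
  map_add' a b := (ψ.val.app (op U)).hom.map_add a b
  map_smul' r a := (ψ.val.app (op U)).hom.map_smul r a

lemma sec_res (ψ : (AMod.dirImg f).obj F ⟶ (AMod.dirImg f).obj G) {U V : S.Opens} (h : V ≤ U) (t : Γ(F, f ⁻¹ᵁ U)) :
    sec ψ V (res F (f.preimage_mono h) t) = res G (f.preimage_mono h) (sec ψ U t) :=
  PresheafOfModules.naturality_apply ψ.val (homOfLE h).op t

variable [IsAffineHom f] [F.IsQuasicoherent] [G.IsQuasicoherent]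

omit [QuasiCompact f] [QuasiSeparated f] in
lemma exists_lift_aux {U : S.Opens} (hU : IsAffineOpen U) {x : X} (hx : f x ∈ U)
    (l : Γ(F, f ⁻¹ᵁ U) →ₗ[Γ(X, f ⁻¹ᵁ U)] Γ(G, f ⁻¹ᵁ U)) :
    ∃ T : F.presheaf.stalk x →ₗ[X.presheaf.stalk x] G.presheaf.stalk x,
      ∀ t, T (germM F (f ⁻¹ᵁ U) x hx t) = germM G (f ⁻¹ᵁ U) x hx (l t) := by
  let _ := moduleSections F (show x ∈ f ⁻¹ᵁ U from hx)
  let _ := moduleSections G (show x ∈ f ⁻¹ᵁ U from hx)
  let _ := X.presheaf.algebra_section_stalk (U := f ⁻¹ᵁ U) ⟨x, hx⟩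
  have : IsScalarTower Γ(X, f ⁻¹ᵁ U) (X.presheaf.stalk x) (F.presheaf.stalk x) :=
    IsScalarTower.of_algebraMap_smul fun _ _ ↦ rfl
  have : IsScalarTower Γ(X, f ⁻¹ᵁ U) (X.presheaf.stalk x) (G.presheaf.stalk x) :=
    IsScalarTower.of_algebraMap_smul fun _ _ ↦ rfl
  let P := ((hU.preimage f).primeIdealOf ⟨x, hx⟩).asIdeal.primeCompl
  have hF := isLocalizedModule_germLin F (show x ∈ f ⁻¹ᵁ U from hx) (hU.preimage f)
  have hG := isLocalizedModule_germLin G (show x ∈ f ⁻¹ᵁ U from hx) (hU.preimage f)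
  have hA : IsLocalization P (X.presheaf.stalk x) := (hU.preimage f).isLocalization_stalk ⟨x, hx⟩
  let T₀ := IsLocalizedModule.map P (germLin F (show x ∈ f ⁻¹ᵁ U from hx)) (germLin G (show x ∈ f ⁻¹ᵁ U from hx)) l
  exact ⟨LinearMap.extendScalarsOfIsLocalization P (X.presheaf.stalk x) T₀, fun t =>
    IsLocalizedModule.map_apply P (germLin F (show x ∈ f ⁻¹ᵁ U from hx)) (germLin G (show x ∈ f ⁻¹ᵁ U from hx)) l t⟩

lemma exists_stalk (ψ : (AMod.dirImg f).obj F ⟶ (AMod.dirImg f).obj G) (x : X) :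
    ∃ T : F.presheaf.stalk x →ₗ[X.presheaf.stalk x] G.presheaf.stalk x,
      ∀ (U : S.Opens) (hx : f x ∈ U) (t : Γ(F, f ⁻¹ᵁ U)),
        T (germM F (f ⁻¹ᵁ U) x hx t) = germM G (f ⁻¹ᵁ U) x hx (sec ψ U t) := by
  obtain ⟨_, ⟨U₀, hU₀, rfl⟩, hx₀, -⟩ := S.isBasis_affineOpens.exists_subset_of_mem_open
    (Set.mem_univ (f x)) isOpen_univ
  obtain ⟨T, hT⟩ := exists_lift_aux hU₀ hx₀ (sec ψ U₀)
  refine ⟨T, fun U hx t => ?_⟩
  obtain ⟨_, ⟨U', hU', rfl⟩, hx', hle⟩ := S.isBasis_affineOpens.exists_subset_of_mem_open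
    (show f x ∈ U₀ ⊓ U from ⟨hx₀, hx⟩) (U₀ ⊓ U).2
  obtain ⟨T', hT'⟩ := exists_lift_aux hU' hx' (sec ψ U')
  have key : ∀ {V : S.Opens} (h : U' ≤ V) (s : Γ(F, f ⁻¹ᵁ V)),
      T' (germM F (f ⁻¹ᵁ V) x (f.preimage_mono h hx') s) = germM G (f ⁻¹ᵁ V) x (f.preimage_mono h hx') (sec ψ V s) := by
    intro V h s
    have e1 : germM F (f ⁻¹ᵁ U') x hx' (res F (f.preimage_mono h) s) = germM F (f ⁻¹ᵁ V) x (f.preimage_mono h hx') s :=
      F.presheaf.germ_res_apply _ x hx' s
    rw [← e1, hT', sec_res ψ h]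
    exact G.presheaf.germ_res_apply _ x hx' _
  have : T = T' := stalk_ext hU₀ hx₀ fun s => (hT s).trans (key (hle.trans Set.inter_subset_left) s).symm
  rw [this]
  exact key (hle.trans Set.inter_subset_right) t

theorem dirImg_map_injective : Function.Injective
    ((AMod.dirImg f).map : (F ⟶ G) → ((AMod.dirImg f).obj F ⟶ (AMod.dirImg f).obj G)) := by
  intro φ φ' h
  refine Scheme.Modules.hom_ext _ _ fun V => ?_
  ext s
  refine TopCat.Presheaf.section_ext ⟨G.presheaf, G.isSheaf⟩ V _ _ fun x hx => ?_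
  show germM G V x hx (φ.app V s) = germM G V x hx (φ'.app V s)
  rw [← stalkLin_germ, ← stalkLin_germ]
  obtain ⟨_, ⟨U, hU, rfl⟩, hxU, -⟩ := S.isBasis_affineOpens.exists_subset_of_mem_open
    (Set.mem_univ (f x)) isOpen_univ
  refine LinearMap.congr_fun (stalk_ext (T := stalkLin φ x) (T' := stalkLin φ' x) hU hxU fun t => ?_) _
  rw [stalkLin_germ, stalkLin_germ]
  exact congrArg _ (congr(($h).val.app (op U) t))

theorem dirImg_map_surjective : Function.Surjective
    ((AMod.dirImg f).map : (F ⟶ G) → ((AMod.dirImg f).obj F ⟶ (AMod.dirImg f).obj G)) := by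
  intro ψ
  choose T hT using fun x => exists_stalk ψ x
  let Gs : TopCat.Sheaf Ab.{u} X := ⟨G.presheaf, G.isSheaf⟩
  have hex : ∀ (V : X.Opens) (s : Γ(F, V)),
      ∃ r : Γ(G, V), ∀ (x : X) (hx : x ∈ V), germM G V x hx r = T x (germM F V x hx s) := by
    intro V s
    have hloc : ∀ z : V, ∃ (W : X.Opens) (_ : (z : X) ∈ W) (hWV : W ≤ V) (r : Γ(G, W)),
        ∀ (x : X) (hx : x ∈ W), germM G W x hx r = T x (germM F V x (hWV hx) s) := by
      rintro ⟨z, hz⟩
      obtain ⟨_, ⟨U, hU, rfl⟩, hzU, -⟩ := S.isBasis_affineOpens.exists_subset_of_mem_open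
        (Set.mem_univ (f z)) isOpen_univ
      obtain ⟨g, hg, hzg⟩ := (hU.preimage f).exists_basicOpen_le ⟨z, hz⟩ (show z ∈ f ⁻¹ᵁ U from hzU)
      obtain ⟨n, t, ht⟩ := (isLocalizingAt F (hU.preimage f) g).surj (res F hg s)
      have hu : IsUnit (rres (X.basicOpen_le g) g) := RingedSpace.isUnit_res_basicOpen _ g
      obtain ⟨v, hv⟩ := hu.pow n
      refine ⟨X.basicOpen g, hzg, hg, ((v⁻¹ : _ˣ) : Γ(X, X.basicOpen g)) • res G (X.basicOpen_le g) (sec ψ U t),
        fun x hx => ?_⟩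
      have hxU : x ∈ f ⁻¹ᵁ U := X.basicOpen_le g hx
      have e1 : germM G (X.basicOpen g) x hx (res G (X.basicOpen_le g) (sec ψ U t)) = germM G _ x hxU (sec ψ U t) :=
        G.presheaf.germ_res_apply _ x hx _
      have e2 : germM F (X.basicOpen g) x hx (res F (X.basicOpen_le g) t) = germM F _ x hxU t :=
        F.presheaf.germ_res_apply _ x hx _
      have e3 : germM F (X.basicOpen g) x hx (res F hg s) = germM F V x (hg hx) s :=
        F.presheaf.germ_res_apply _ x hx _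
      rw [germM_smul, e1, ← hT x U hxU t, ← e2, ht, ← hv, germM_smul, map_smul, e3, smul_smul, ← map_mul,
        Units.inv_mul, map_one, one_smul]
    choose W hzW hWV r hr using hloc
    have hV : V ≤ ⨆ z : V, W z := fun x hx => Opens.mem_iSup.2 ⟨⟨x, hx⟩, hzW _⟩
    obtain ⟨m, hm⟩ := exists_glue G hWV hV r fun i j =>
      TopCat.Presheaf.section_ext Gs _ _ _ fun x hx =>
        (G.presheaf.germ_res_apply (homOfLE inf_le_left) x hx _).trans ((hr i x hx.1).trans
          ((G.presheaf.germ_res_apply (homOfLE inf_le_right) x hx _).trans (hr j x hx.2)).symm)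
    refine ⟨m, fun x hx => ?_⟩
    obtain ⟨i, hi⟩ := Opens.mem_iSup.1 (hV hx)
    rw [← hr i x hi, ← hm i]
    exact (G.presheaf.germ_res_apply (homOfLE (hWV i)) x hi m).symm
  choose r hr using hex
  have hadd : ∀ V a b, r V (a + b) = r V a + r V b := fun V a b =>
    TopCat.Presheaf.section_ext Gs _ _ _ fun x hx => by
      show germM G V x hx _ = (G.presheaf.germ V x hx).hom _
      rw [map_add]
      exact (hr _ _ x hx).trans ((congrArg (T x) (map_add (F.presheaf.germ V x hx).hom a b)).trans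
        ((map_add (T x) _ _).trans (congrArg₂ (· + ·) (hr _ _ x hx).symm (hr _ _ x hx).symm)))
  have hsmul : ∀ V (a : Γ(X, V)) s, r V (a • s) = a • r V s := fun V a s =>
    TopCat.Presheaf.section_ext Gs _ _ _ fun x hx => by
      show germM G V x hx _ = germM G V x hx _
      rw [hr, germM_smul, map_smul, germM_smul, hr]
  let φp : F.presheaf ⟶ G.presheaf :=
    { app := fun V => AddCommGrpCat.ofHom (AddMonoidHom.mk' (r V.unop) (hadd V.unop))
      naturality := fun V W i => by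
        ext s
        refine TopCat.Presheaf.section_ext Gs _ _ _ fun x hx => ?_
        refine (hr _ _ x hx).trans ?_
        refine (congrArg (T x) (F.presheaf.germ_res_apply i.unop x hx s)).trans ?_
        exact ((G.presheaf.germ_res_apply i.unop x hx _).trans (hr _ _ x _)).symm }
  let φ : F ⟶ G := { val := PresheafOfModules.homMk φp (fun V a s => hsmul V.unop a s) }
  refine ⟨φ, ?_⟩
  apply SheafOfModules.hom_ext
  apply PresheafOfModules.hom_ext
  intro U
  ext s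
  refine TopCat.Presheaf.section_ext Gs (f ⁻¹ᵁ U.unop) _ _ fun x hx => ?_
  exact (hr (f ⁻¹ᵁ U.unop) s x hx).trans (hT x U.unop hx s)

end Groth.Agent.DirImgAff
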